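import Groth.Agent.UnivHomeo.Scheme
import Groth.Agent.NormH3.PurelyInsep
import Mathlib

/-!
# Finite universal homeomorphisms realising a purely inseparable residue extension
-/

set_option autoImplicit false
set_option linter.style.haveILetI false

universe u

open CategoryTheory AlgebraicGeometry

namespace Groth.Agent.FlatMorGenRed

/-- A finite purely inseparable extension of the residue field of the generic point comes from a finite
universal homeomorphism onto the spectrum. -/
theorem exists_univHomeo_model {A : Type u} [CommRing A] (η : Ideal A) [η.IsPrime] (hη : η ≤ nilradical A)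
    (k' : Type u) [Field k'] [Algebra η.ResidueField k'] [FiniteDimensional η.ResidueField k']
    [IsPurelyInseparable η.ResidueField k'] :
    ∃ (B : Type u) (_ : CommRing B) (_ : IsDomain B) (_ : Algebra A B) (ψ : B →+* k'),
      (∀ a, ψ (algebraMap A B a) = algebraMap η.ResidueField k' (algebraMap A η.ResidueField a)) ∧
      Function.Injective ψ ∧ (∀ c : k', ∃ b s : B, ψ s ≠ 0 ∧ c * ψ s = ψ b) ∧ Module.Finite A B ∧
      FlatMor.IsUnivHomeo (Spec.map (CommRingCat.ofHom (algebraMap A B))) ∧
      ∀ x : B, x ≠ 0 → ∃ a : A, algebraMap A B a ≠ 0 ∧ x ∣ algebraMap A B a := by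
  classical
  let k := η.ResidueField
  let q := ringExpChar k
  haveI : ExpChar k q := ringExpChar.expChar k
  haveI : ExpChar k' q := expChar_of_injective_algebraMap (algebraMap k k').injective q
  letI : Algebra A k' := ((algebraMap k k').comp (algebraMap A k)).toAlgebra
  haveI : IsScalarTower A k k' := IsScalarTower.of_algebraMap_eq fun _ => rfl
  have hfrac : ∀ c : k, ∃ a r : A, algebraMap A k r ≠ 0 ∧ c * algebraMap A k r = algebraMap A k a := by
    intro c
    obtain ⟨⟨a, s, hs⟩, has⟩ := IsLocalization.surj (nonZeroDivisors (A ⧸ η)) c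
    obtain ⟨a, rfl⟩ := Ideal.Quotient.mk_surjective a
    obtain ⟨s, rfl⟩ := Ideal.Quotient.mk_surjective s
    refine ⟨a, s, fun h0 => ?_, has⟩
    rw [← RingHom.mem_ker, Ideal.ker_algebraMap_residueField] at h0
    exact nonZeroDivisors.ne_zero hs (Ideal.Quotient.eq_zero_iff_mem.mpr h0)
  have hscale : ∀ z : k', ∃ (r : A) (n : ℕ), algebraMap A k' r ≠ 0 ∧
      (z * algebraMap A k' r) ^ q ^ n ∈ (algebraMap A k').range := by
    intro z
    obtain ⟨n, c, hc⟩ := IsPurelyInseparable.pow_mem k q z
    obtain ⟨a, r, hr, har⟩ := hfrac c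
    refine ⟨r, n, (_root_.map_ne_zero (algebraMap k k')).2 hr, ?_⟩
    have hq : 1 ≤ q ^ n := Nat.one_le_pow _ _ (expChar_pos k q)
    refine ⟨a * r ^ (q ^ n - 1), ?_⟩
    rw [mul_pow, ← hc, map_mul, map_pow]
    show algebraMap k k' (algebraMap A k a) * _ = _
    rw [← har, map_mul, mul_assoc, ← IsScalarTower.algebraMap_apply, ← pow_succ', Nat.sub_add_cancel hq]
  let b := Module.finBasis k k'
  choose r n hr hn using fun i => hscale (b i)
  let S : Subalgebra A k' := Algebra.adjoin A (Set.range fun i => b i * algebraMap A k' (r i))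
  have hpow : ∀ x ∈ S, ∃ m : ℕ, x ^ q ^ m ∈ (algebraMap A k').range := by
    intro x hx
    induction hx using Algebra.adjoin_induction with
    | mem x hx => obtain ⟨i, rfl⟩ := hx; exact ⟨n i, hn i⟩
    | algebraMap a => exact ⟨0, by simp⟩
    | add x y _ _ hx hy =>
      obtain ⟨i, hi⟩ := hx
      obtain ⟨j, hj⟩ := hy
      refine ⟨i + j, ?_⟩
      rw [add_pow_expChar_pow, pow_add, pow_mul x, mul_comm (q ^ i) (q ^ j), pow_mul y]
      exact add_mem (pow_mem hi _) (pow_mem hj _)
    | mul x y _ _ hx hy =>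
      obtain ⟨i, hi⟩ := hx
      obtain ⟨j, hj⟩ := hy
      refine ⟨i + j, ?_⟩
      rw [mul_pow, pow_add, pow_mul x, mul_comm (q ^ i) (q ^ j), pow_mul y]
      exact mul_mem (pow_mem hi _) (pow_mem hj _)
  haveI hfin : Module.Finite A S := by
    refine Module.Finite.iff_fg.2 (fg_adjoin_of_finite (Set.finite_range _) fun x hx => ?_)
    obtain ⟨i, rfl⟩ := hx
    obtain ⟨a, ha⟩ := hn i
    exact IsIntegral.of_pow (Nat.pos_of_ne_zero (pow_ne_zero _ (expChar_pos k q).ne'))
      (ha ▸ isIntegral_algebraMap)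
  have hker : RingHom.ker (algebraMap A S) ≤ nilradical A := fun a ha => hη (by
    rw [RingHom.mem_ker] at ha
    have h0 : algebraMap k k' (algebraMap A k a) = 0 := congrArg Subtype.val ha
    rwa [_root_.map_eq_zero, Ideal.algebraMap_residueField_eq_zero] at h0)
  have hq : ∀ x : S, ∃ (m : ℕ) (a : A), algebraMap A S a = x ^ q ^ m := fun x => by
    obtain ⟨m, a, ha⟩ := hpow x.1 x.2
    exact ⟨m, a, Subtype.ext ha⟩
  refine ⟨S, inferInstance, inferInstance, inferInstance, S.val.toRingHom, fun _ => rfl,
    Subtype.val_injective, fun c => ?_, hfin, ?_, fun x hx => ?_⟩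
  · choose a s hs has using fun i => hfrac (b.repr c i)
    let t := (∏ i, s i) * ∏ i, r i
    have hs0 : algebraMap A k' (∏ i, s i) ≠ 0 := by
      rw [map_prod]
      exact Finset.prod_ne_zero_iff.2 fun i _ => (_root_.map_ne_zero (algebraMap k k')).2 (hs i)
    have hr0 : algebraMap A k' (∏ i, r i) ≠ 0 := by
      rw [map_prod]; exact Finset.prod_ne_zero_iff.2 fun i _ => hr i
    have hmem : c * algebraMap A k' t ∈ S := by
      rw [← b.sum_repr c, Finset.sum_mul]
      refine sum_mem fun i _ => ?_
      rw [show b.repr c i • b i * algebraMap A k' t =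
        algebraMap A k' (a i * (∏ j ∈ Finset.univ.erase i, s j) * ∏ j ∈ Finset.univ.erase i, r j) *
          (b i * algebraMap A k' (r i)) from ?_]
      · exact mul_mem (S.algebraMap_mem _) (Algebra.subset_adjoin ⟨i, rfl⟩)
      · have e : algebraMap A k' (a i) = algebraMap k k' (b.repr c i) * algebraMap A k' (s i) := by
          show algebraMap k k' (algebraMap A k (a i)) = _
          rw [← has i, map_mul]
          rfl
        rw [Algebra.smul_def, show t = (∏ i, s i) * ∏ i, r i from rfl, ← Finset.mul_prod_erase _ s (Finset.mem_univ i),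
          ← Finset.mul_prod_erase _ r (Finset.mem_univ i)]
        simp only [map_mul, e]
        ring
    exact ⟨⟨_, hmem⟩, algebraMap A S t, by rw [show (S.val.toRingHom (algebraMap A S t) : k') = algebraMap A k' t from rfl, map_mul]; exact mul_ne_zero hs0 hr0, rfl⟩
  · refine UnivHomeo.isUnivHomeo_iff _ |>.2 ⟨Algebra.IsIntegral.isIntegral, ?_, hker⟩
    exact NormH3.PurelyInsep.rad_of_pow_mem q (RingHom.id A) (algebraMap A S) S.val.toRingHom Subtype.val_injective
      (fun K _ g₁ g₂ h => by simpa using h) (fun x => by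
        obtain ⟨m, a, ha⟩ := hq x
        exact ⟨m, a, ha⟩)
  · obtain ⟨m, a, ha⟩ := hq x
    exact ⟨a, ha ▸ pow_ne_zero _ hx, ha ▸ dvd_pow_self x (pow_ne_zero _ (expChar_pos k q).ne')⟩

end Groth.Agent.FlatMorGenRed
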