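import Groth.Agent.FBaseLib.InsepReducedAlg
import Groth.Agent.FBaseLib.Geom
import Groth.Agent.FlatMor12.GeomDescent
import Groth.Agent.Props12.KerReduced

/-!
# Geometrically reduced reductions after a finite purely inseparable extension, for schemes
-/

set_option autoImplicit false
set_option linter.style.haveILetI false
set_option backward.isDefEq.respectTransparency false

universe u

open CategoryTheory Limits AlgebraicGeometry TensorProduct

namespace Groth.Agent.FlatMorGenRed

/-- The source of a local isomorphism to a reduced scheme is reduced. -/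
theorem isReduced_of_isLocalIso {A B : Scheme.{u}} (h : A ⟶ B) [IsLocalIso h] [IsReduced B] : IsReduced A := by
  have hst : ∀ a : A, _root_.IsReduced (A.presheaf.stalk a) := fun a => by
    obtain ⟨U, haU, hU⟩ := IsLocalIso.exists_isOpenImmersion (f := h) a
    haveI := hU
    haveI : IsReduced U.toScheme := isReduced_of_isOpenImmersion (U.ι ≫ h)
    haveI : _root_.IsReduced (U.toScheme.presheaf.stalk ⟨a, haU⟩) := inferInstance
    exact isReduced_of_injective _
      (asIso (U.ι.stalkMap ⟨a, haU⟩)).commRingCatIsoToRingEquiv.injective
  exact isReduced_of_isReduced_stalk A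

/-- A geometrically reduced algebra has geometrically reduced spectrum. -/
theorem geometricallyReduced_specMap {k B : Type u} [Field k] [CommRing B] [Algebra k B]
    [Algebra.IsGeometricallyReduced k B] :
    GeometricallyReduced (Spec.map (CommRingCat.ofHom (algebraMap k B))) := by
  let Ω := AlgebraicClosure k
  haveI : _root_.IsReduced (B ⊗[k] Ω) :=
    isReduced_of_injective (Algebra.TensorProduct.comm k B Ω) (Algebra.TensorProduct.comm k B Ω).injective
  haveI : AlgebraicGeometry.IsReduced (Spec (CommRingCat.of (B ⊗[k] Ω))) := inferInstance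
  haveI := isReduced_of_isOpenImmersion (pullbackSpecIso k B Ω).hom
  exact FBaseLib.geometricallyReduced_of_perfect (Ω := Ω) _

/-- Geometrically reduced passes down along surjective flat maps of sources. -/
theorem geometricallyReduced_of_surjective_source {k : Type u} [Field k] {A B : Scheme.{u}} (h : A ⟶ B)
    [Flat h] [Surjective h] (p : B ⟶ Spec (CommRingCat.of k)) [GeometricallyReduced (h ≫ p)] :
    GeometricallyReduced p := by
  refine ⟨geometrically_iff_of_isClosedUnderIsomorphisms.2 fun K _ x => ?_⟩
  haveI : IsReduced (pullback (h ≫ p) x) :=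
    pullback_of_geometrically (GeometricallyReduced.geometrically_isReduced (f := h ≫ p)) K x
  let m : pullback (h ≫ p) x ⟶ pullback p x := pullback.map _ _ _ _ h (𝟙 _) (𝟙 _) (by simp) (by simp)
  have hm : IsPullback m (pullback.fst (h ≫ p) x) (pullback.fst p x) h := by
    refine (IsPullback.of_right ?_ ?_ (IsPullback.of_hasPullback p x).flip).flip.flip
    · simpa [m] using (IsPullback.of_hasPullback (h ≫ p) x).flip
    · simp [m]
  haveI : Surjective m := MorphismProperty.of_isPullback hm.flip inferInstance
  haveI : Flat m := MorphismProperty.of_isPullback hm.flip inferInstance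
  exact FlatMor12.isReduced_of_flat_surjective m

/-- For a scheme of finite type over a field there is a finite purely inseparable extension over which
its reduction is geometrically reduced. -/
theorem exists_extension {k : Type u} [Field k] {X : Scheme.{u}} (p : X ⟶ Spec (CommRingCat.of k))
    [LocallyOfFiniteType p] [CompactSpace X] :
    ∃ (k' : Type u) (_ : Field k') (_ : Algebra k k'), Module.Finite k k' ∧ IsPurelyInseparable k k' ∧
      ∀ (F : Scheme.{u}) (j : F ⟶ pullback (Spec.map (CommRingCat.ofHom (algebraMap k k'))) p)
        [IsClosedImmersion j] [Surjective j] [IsReduced F],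
        GeometricallyReduced (j ≫ pullback.fst (Spec.map (CommRingCat.ofHom (algebraMap k k'))) p) := by
  obtain ⟨Y, σ, hσs, hσl, hY⟩ := Scheme.exists_hom_isAffine_of_isZariskiLocalAtSource (P := @IsLocalIso) X
  haveI := hσs; haveI := hσl; haveI := hY
  let D := Γ(Y, ⊤)
  let q : Spec D ⟶ X := Y.isoSpec.inv ≫ σ
  haveI : IsLocalIso q := MorphismProperty.comp_mem _ _ _
    (IsZariskiLocalAtSource.of_isOpenImmersion (P := @IsLocalIso) Y.isoSpec.inv) hσl
  haveI : Surjective q := inferInstance
  haveI : LocallyOfFiniteType q := by
    exact IsLocalIso.le_of_isZariskiLocalAtSource @LocallyOfFiniteType _ _ q ‹IsLocalIso q›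
  haveI : Flat q := IsLocalIso.le_of_isZariskiLocalAtSource @Flat _ _ q ‹IsLocalIso q›
  obtain ⟨φ, hφ⟩ : ∃ φ : CommRingCat.of k ⟶ D, Spec.map φ = q ≫ p := ⟨_, Spec.map_preimage _⟩
  letI : Algebra k D := φ.hom.toAlgebra
  haveI : Algebra.FiniteType k D := by
    have : LocallyOfFiniteType (q ≫ p) := inferInstance
    rw [← hφ] at this
    exact (HasRingHomProperty.Spec_iff (P := @LocallyOfFiniteType)).mp this
  obtain ⟨k', i1, i2, hfin, hpi, hgr⟩ := FBaseLib.InsepReducedAlg.exists_finite_geomReduced_of_essFiniteType k D
  refine ⟨k', i1, i2, hfin, hpi, fun F j _ _ _ => ?_⟩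
  let E := (k' ⊗[k] D) ⧸ nilradical (k' ⊗[k] D)
  let s := Spec.map (CommRingCat.ofHom (algebraMap k k'))
  let p₀ : Spec D ⟶ Spec (CommRingCat.of k) := Spec.map (CommRingCat.ofHom (algebraMap k D))
  have hp₀ : p₀ = q ≫ p := hφ
  let m : pullback s p₀ ⟶ pullback s p :=
    pullback.map _ _ _ _ (𝟙 _) q (𝟙 _) (by simp) (by simp [hp₀])
  have hm : IsPullback m (pullback.snd s p₀) (pullback.snd s p) q := by
    refine IsPullback.of_right ?_ (by simp [m]) (IsPullback.of_hasPullback s p)
    rw [show m ≫ pullback.fst s p = pullback.fst s p₀ by simp [m], ← hp₀]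
    exact IsPullback.of_hasPullback s p₀
  haveI : IsLocalIso m := MorphismProperty.of_isPullback hm.flip inferInstance
  haveI : Surjective m := MorphismProperty.of_isPullback hm.flip inferInstance
  -- the pullback to the affine cover
  let Q := pullback m j
  haveI : IsLocalIso (pullback.snd m j) := MorphismProperty.pullback_snd _ _ inferInstance
  haveI : Surjective (pullback.snd m j) := MorphismProperty.pullback_snd _ _ inferInstance
  haveI : Flat (pullback.snd m j) := IsLocalIso.le_of_isZariskiLocalAtSource @Flat _ _ (pullback.snd m j) inferInstance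
  haveI : IsReduced Q := isReduced_of_isLocalIso (pullback.snd m j)
  haveI : IsClosedImmersion (pullback.fst m j) := MorphismProperty.pullback_fst _ _ inferInstance
  haveI : Surjective (pullback.fst m j) := MorphismProperty.pullback_fst _ _ inferInstance
  -- the reduction of the affine cover
  let e₀ : Spec (CommRingCat.of E) ⟶ pullback s p₀ :=
    Spec.map (CommRingCat.ofHom (Ideal.Quotient.mk (nilradical (k' ⊗[k] D)))) ≫ (pullbackSpecIso k k' D).inv
  haveI : IsClosedImmersion (Spec.map (CommRingCat.ofHom (Ideal.Quotient.mk (nilradical (k' ⊗[k] D))))) :=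
    IsClosedImmersion.spec_of_surjective _ Ideal.Quotient.mk_surjective
  haveI : Surjective (Spec.map (CommRingCat.ofHom (Ideal.Quotient.mk (nilradical (k' ⊗[k] D))))) := ⟨fun x => by
    have : x ∈ Set.range (PrimeSpectrum.comap (Ideal.Quotient.mk (nilradical (k' ⊗[k] D)))) := by
      rw [range_comap_of_surjective _ _ Ideal.Quotient.mk_surjective, Ideal.mk_ker]
      exact fun z hz => (nilradical_le_prime x.asIdeal) hz
    exact this⟩
  haveI : IsClosedImmersion e₀ := inferInstance
  haveI : Surjective e₀ := inferInstance
  haveI : IsReduced (Spec (CommRingCat.of E)) := by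
    haveI : _root_.IsReduced E := (Ideal.isRadical_iff_quotient_reduced _).1 (Ideal.radical_isRadical _)
    infer_instance
  haveI : IsClosedImmersion (pullback.fst (pullback.fst m j) e₀) := MorphismProperty.pullback_fst _ _ inferInstance
  haveI : Surjective (pullback.fst (pullback.fst m j) e₀) := MorphismProperty.pullback_fst _ _ inferInstance
  haveI : IsClosedImmersion (pullback.snd (pullback.fst m j) e₀) := MorphismProperty.pullback_snd _ _ inferInstance
  haveI : Surjective (pullback.snd (pullback.fst m j) e₀) := MorphismProperty.pullback_snd _ _ inferInstance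
  haveI := isIso_of_isClosedImmersion_of_surjective (pullback.fst (pullback.fst m j) e₀)
  haveI := isIso_of_isClosedImmersion_of_surjective (pullback.snd (pullback.fst m j) e₀)
  let τ : Q ⟶ Spec (CommRingCat.of E) :=
    inv (pullback.fst (pullback.fst m j) e₀) ≫ pullback.snd (pullback.fst m j) e₀
  haveI := hgr
  haveI := geometricallyReduced_specMap (k := k') (B := E)
  have hE : e₀ ≫ pullback.fst s p₀ = Spec.map (CommRingCat.ofHom (algebraMap k' E)) := by
    rw [Category.assoc, pullbackSpecIso_inv_fst, ← Spec.map_comp]
    rfl
  have hQ : pullback.snd m j ≫ j ≫ pullback.fst s p = τ ≫ Spec.map (CommRingCat.ofHom (algebraMap k' E)) := by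
    rw [← pullback.condition_assoc, ← hE]
    simp only [τ, Category.assoc]
    rw [← pullback.condition_assoc (f := pullback.fst m j), IsIso.inv_hom_id_assoc]
    simp [m]
  haveI : GeometricallyReduced (pullback.snd m j ≫ j ≫ pullback.fst s p) := by
    rw [hQ]
    exact (MorphismProperty.cancel_left_of_respectsIso @GeometricallyReduced τ _).2 inferInstance
  exact geometricallyReduced_of_surjective_source (pullback.snd m j) _

end Groth.Agent.FlatMorGenRed
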