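import Groth.Agent.FlatMorGeneric.Scheme
import Mathlib

/-!
# Quasi-separatedness over a dense open of an integral base
-/

set_option autoImplicit false
set_option linter.style.haveILetI false
set_option backward.isDefEq.respectTransparency false

universe u

open CategoryTheory Limits AlgebraicGeometry TensorProduct

namespace Groth.Agent.FlatMorGenRed

/-- An open of an algebra of finite type over a domain is quasi-compact over a dense open. -/
theorem exists_compact_inter {R C : Type u} [CommRing R] [IsDomain R] [CommRing C] [Algebra R C]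
    [Algebra.FiniteType R C] (W : Set (PrimeSpectrum C)) (hW : IsOpen W) :
    ∃ a : R, a ≠ 0 ∧ ∀ c, a ∣ c → c ≠ 0 → IsCompact (W ∩ PrimeSpectrum.basicOpen (algebraMap R C c)) := by
  classical
  let I := PrimeSpectrum.vanishingIdeal Wᶜ
  have hI : PrimeSpectrum.zeroLocus (I : Set C) = Wᶜ := by
    rw [PrimeSpectrum.zeroLocus_vanishingIdeal_eq_closure, hW.isClosed_compl.closure_eq]
  haveI : IsNoetherianRing (C ⊗[R] FractionRing R) := by
    haveI : IsNoetherianRing (FractionRing R ⊗[R] C) :=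
      Algebra.FiniteType.isNoetherianRing (FractionRing R) (FractionRing R ⊗[R] C)
    exact isNoetherianRing_of_ringEquiv _ (Algebra.TensorProduct.comm R (FractionRing R) C).toRingEquiv
  let L := C ⊗[R] FractionRing R
  have hfg : (Submodule.span L (algebraMap C L '' (I : Set C))).FG := IsNoetherian.noetherian _
  obtain ⟨s', hs', hspan⟩ := (Submodule.fg_span_iff_fg_span_finset_subset _).1 hfg
  obtain ⟨s, hsI, rfl⟩ := Finset.subset_set_image_iff.1 hs'
  let J := (Ideal.span (s : Set C)).radical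
  have hsJ : ∀ j ∈ s, j ∈ J := fun j hj => Ideal.le_radical (Ideal.subset_span hj)
  haveI : _root_.IsReduced R := inferInstance
  obtain ⟨a, ha, hflat⟩ := FlatMorGeneric.exists_forall_flat_fp (A := R) (B := fun _ : Unit => C ⧸ J)
    (fun _ => algebraMap R (C ⧸ J))
    (fun _ => RingHom.finiteType_algebraMap.2 (Algebra.FiniteType.trans (S := C) inferInstance inferInstance)) {()}
  refine ⟨a, ha, fun c hac hc => ?_⟩
  have key : ∀ x ∈ I, ∃ N : ℕ, algebraMap R C c ^ N * x ∈ J := fun x hx => by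
    have h1 : algebraMap C L x ∈ (Ideal.span (s : Set C)).map (algebraMap C L) := by
      rw [Ideal.map_span, ← Finset.coe_image]
      exact hspan.le (Submodule.subset_span ⟨x, hx, rfl⟩)
    obtain ⟨⟨⟨y, hy⟩, ⟨_, t, ht, rfl⟩⟩, e⟩ :=
      (IsLocalization.mem_map_algebraMap_iff (Algebra.algebraMapSubmonoid C (nonZeroDivisors R)) L).1 h1
    rw [← map_mul] at e
    obtain ⟨⟨_, t', ht', rfl⟩, e'⟩ :=
      (IsLocalization.eq_iff_exists (Algebra.algebraMapSubmonoid C (nonZeroDivisors R)) L).1 e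
    have htx : algebraMap R C (t' * t) * x ∈ J := by
      refine Ideal.le_radical ?_
      rw [show algebraMap R C (t' * t) * x = algebraMap R C t' * (x * algebraMap R C t) by rw [map_mul]; ring, e']
      exact Ideal.mul_mem_left _ _ hy
    have hfl := (hflat () (Finset.mem_singleton_self _) c hac hc).1
    let M := Localization.Away (algebraMap R (C ⧸ J) c)
    let R₁ := Localization.Away c
    letI : Algebra R₁ M := (Localization.awayMap (algebraMap R (C ⧸ J)) c).toAlgebra
    haveI : Module.Flat R₁ M := hfl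
    haveI : IsDomain R₁ := IsLocalization.isDomain_localization (powers_le_nonZeroDivisors_of_noZeroDivisors hc)
    have ht0 : algebraMap R R₁ (t' * t) ≠ 0 := fun h0 =>
      mul_ne_zero (nonZeroDivisors.ne_zero ht') (nonZeroDivisors.ne_zero ht)
        ((IsLocalization.injective R₁ (powers_le_nonZeroDivisors_of_noZeroDivisors hc)) (h0.trans (map_zero _).symm))
    have h2 : algebraMap (C ⧸ J) M (Ideal.Quotient.mk J x) = 0 := by
      refine Module.Flat.isSMulRegular_of_nonZeroDivisors (R := R₁) (M := M) (mem_nonZeroDivisors_of_ne_zero ht0) ?_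
      show algebraMap R R₁ (t' * t) • _ = algebraMap R R₁ (t' * t) • 0
      rw [smul_zero, Algebra.smul_def]
      show IsLocalization.Away.map R₁ M (algebraMap R (C ⧸ J)) c (algebraMap R R₁ (t' * t)) * _ = 0
      rw [IsLocalization.Away.map, IsLocalization.map_eq, ← map_mul]
      rw [show algebraMap R (C ⧸ J) (t' * t) * Ideal.Quotient.mk J x = 0 from
        Ideal.Quotient.eq_zero_iff_mem.2 htx, map_zero]
    obtain ⟨⟨_, N, rfl⟩, hN⟩ := (IsLocalization.map_eq_zero_iff (Submonoid.powers (algebraMap R (C ⧸ J) c)) M _).1 h2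
    exact ⟨N, Ideal.Quotient.eq_zero_iff_mem.1 (by rw [map_mul, map_pow]; exact hN)⟩
  have hset : W ∩ PrimeSpectrum.basicOpen (algebraMap R C c) =
      ⋃ j ∈ s, (PrimeSpectrum.basicOpen (j * algebraMap R C c) : Set (PrimeSpectrum C)) := by
    ext P
    simp only [Set.mem_iUnion₂, Set.mem_inter_iff]
    constructor
    · rintro ⟨hPW, hPc⟩
      have hP : P ∉ PrimeSpectrum.zeroLocus (I : Set C) := by rw [hI]; exact fun h => h hPW
      rw [PrimeSpectrum.mem_zeroLocus, Set.not_subset] at hP
      obtain ⟨x, hxI, hxP⟩ := hP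
      obtain ⟨N, hN⟩ := key x hxI
      have hns : ¬ Ideal.span (s : Set C) ≤ P.asIdeal := fun hle =>
        (P.isPrime.mem_or_mem ((P.isPrime.radical_le_iff.2 hle) hN)).elim
          (fun h => hPc (P.isPrime.mem_of_pow_mem N h)) hxP
      rw [Ideal.span_le, Set.not_subset] at hns
      obtain ⟨j, hj, hjP⟩ := hns
      exact ⟨j, hj, fun h => (P.isPrime.mem_or_mem h).elim hjP hPc⟩
    · rintro ⟨j, hj, hP⟩
      have hjP : j ∉ P.asIdeal := fun h => hP (Ideal.mul_mem_right _ _ h)
      refine ⟨?_, fun h => hP (Ideal.mul_mem_left _ _ h)⟩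
      by_contra hPW
      exact hjP ((show P ∈ PrimeSpectrum.zeroLocus (I : Set C) by rw [hI]; exact hPW) (hsI hj))
  rw [hset]
  exact s.finite_toSet.isCompact_biUnion fun j _ => PrimeSpectrum.isCompact_basicOpen _

/-- Basic opens of a spectrum, as opens of the scheme. -/
abbrev sbo {R : CommRingCat.{u}} (c : R) : (Spec R).Opens := PrimeSpectrum.basicOpen c

/-- A morphism of finite type to an integral affine scheme is quasi-separated over a dense open. -/
theorem exists_qs {R : CommRingCat.{u}} [IsDomain R] {X : Scheme.{u}} (p : X ⟶ Spec R) [LocallyOfFiniteType p]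
    [QuasiCompact p] :
    ∃ a : R, a ≠ 0 ∧ ∀ c, a ∣ c → c ≠ 0 → QuasiSeparated (p ∣_ sbo c) := by
  classical
  haveI : CompactSpace X := QuasiCompact.compactSpace_of_compactSpace p
  obtain ⟨t, ht⟩ := isCompact_univ.elim_finite_subcover (fun U : X.affineOpens => (U.1 : Set X)) (fun U => U.1.2)
    fun x _ => Set.mem_iUnion.2 (by
      obtain ⟨U, hU, hxU, -⟩ := exists_isAffineOpen_mem_and_subset (U := (⊤ : X.Opens)) (x := x) trivial
      exact ⟨⟨U, hU⟩, hxU⟩)
  have hpair : ∀ ij : t × t, ∃ a : R, a ≠ 0 ∧ ∀ c, a ∣ c → c ≠ 0 →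
      IsCompact ((ij.1.1.1 : Set X) ∩ ij.2.1.1 ∩ (p ⁻¹' ((sbo c : (Spec R).Opens) : Set (Spec R)))) := by
    rintro ⟨⟨⟨U, hU⟩, -⟩, ⟨V, -⟩⟩
    obtain ⟨φ, hφ⟩ : ∃ φ : R ⟶ Γ(X, U), Spec.map φ = hU.fromSpec ≫ p := ⟨_, Spec.map_preimage _⟩
    letI : Algebra R Γ(X, U) := φ.hom.toAlgebra
    haveI : Algebra.FiniteType R Γ(X, U) := by
      have : LocallyOfFiniteType (hU.fromSpec ≫ p) := inferInstance
      rw [← hφ] at this
      exact (HasRingHomProperty.Spec_iff (P := @LocallyOfFiniteType)).mp this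
    obtain ⟨a, ha, hcomp⟩ := exists_compact_inter (R := R) (hU.fromSpec ⁻¹' (V.1 : Set X))
      (V.1.2.preimage hU.fromSpec.continuous)
    refine ⟨a, ha, fun c hac hc => ?_⟩
    have := (hcomp c hac hc).image hU.fromSpec.continuous
    convert this using 1
    have hpre : (PrimeSpectrum.basicOpen (algebraMap R Γ(X, U) c) : Set (PrimeSpectrum Γ(X, U))) =
        hU.fromSpec ⁻¹' (p ⁻¹' ((sbo c : (Spec R).Opens) : Set (Spec R))) := by
      rw [← Set.preimage_comp]
      show _ = (hU.fromSpec ≫ p) ⁻¹' _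
      rw [← hφ]
      rfl
    rw [hpre]
    rw [← Set.preimage_inter, Set.image_preimage_eq_inter_range, hU.range_fromSpec]
    ext z
    simp only [Set.mem_inter_iff]
    tauto
  choose a ha hcomp using hpair
  refine ⟨∏ ij, a ij, Finset.prod_ne_zero_iff.2 fun ij _ => ha ij, fun c hc hc0 => ?_⟩
  haveI : QuasiSeparatedSpace (p ⁻¹ᵁ sbo c).toScheme := by
    let O := p ⁻¹ᵁ sbo c
    refine Scheme.quasiSeparatedSpace_of_isOpenCover (fun U : t => O.ι ⁻¹ᵁ U.1.1) ?_ (fun U => ?_) fun U V => ?_
    · refine TopologicalSpace.IsOpenCover.mk (top_le_iff.1 fun z _ => ?_)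
      obtain ⟨U, hU, hz⟩ := Set.mem_iUnion₂.1 (ht (Set.mem_univ z.1))
      exact TopologicalSpace.Opens.mem_iSup.2 ⟨⟨U, hU⟩, hz⟩
    · have hmem := U.1.2
      have : IsAffineOpen (U.1.1 ⊓ O) := by
        haveI : IsAffine (U.1.1 : X.Opens).toScheme := hmem
        have h1 := p.preimage_basicOpen (U := ⊤) ((Scheme.ΓSpecIso R).inv c)
        rw [show (Spec R).basicOpen ((Scheme.ΓSpecIso R).inv c) = sbo c from
          basicOpen_eq_of_affine c] at h1
        show IsAffineOpen (U.1.1 ⊓ p ⁻¹ᵁ sbo c)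
        rw [h1, ← Scheme.basicOpen_res _ _ (homOfLE (le_top : U.1.1 ≤ (p ⁻¹ᵁ ⊤))).op]
        exact hmem.basicOpen _
      rw [← (O.ι).isAffineOpen_iff_of_isOpenImmersion, O.ι.image_preimage_eq_opensRange_inf,
        Scheme.Opens.opensRange_ι, inf_comm]
      exact this
    · rw [O.ι.isOpenEmbedding.isInducing.isCompact_iff]
      convert hcomp ⟨U, V⟩ c ((Finset.dvd_prod_of_mem a (Finset.mem_univ _)).trans hc) hc0 using 1
      show O.ι '' (O.ι ⁻¹' (U.1.1 : Set X) ∩ O.ι ⁻¹' (V.1.1 : Set X)) = _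
      rw [← Set.preimage_inter, Set.image_preimage_eq_inter_range, Scheme.Opens.range_ι]
      rfl
  haveI : QuasiSeparatedSpace (sbo c).toScheme := by
    haveI : IsAffine (sbo c).toScheme :=
      show IsAffineOpen (sbo c) by
        rw [show sbo c = (Spec R).basicOpen ((Scheme.ΓSpecIso R).inv c) from (basicOpen_eq_of_affine c).symm]
        exact (isAffineOpen_top (Spec R)).basicOpen _
    infer_instance
  exact (quasiSeparated_iff_quasiSeparatedSpace _).2 inferInstance

end Groth.Agent.FlatMorGenRed
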